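import Groth.Agent.LocZLib.Flasque
import Groth.Agent.CohBase.Push
import Groth.Agent.CechOpenLib.ClosedPush

/-!
# Basic facts on cohomology of abelian sheaves on a space
-/

set_option autoImplicit false
set_option linter.style.haveILetI false
set_option backward.isDefEq.respectTransparency false

universe u

open CategoryTheory CategoryTheory.Limits TopologicalSpace Opposite CategoryTheory.Abelian

noncomputable section

namespace Groth.Agent.CohTopEasy

open LocZLib

variable {X Y : TopCat.{u}}

theorem res_eq_comp (F : CohTop.Ab X) (n : ℕ) {U V : Opens X} (h : V ≤ U)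
    (x : CohTop.HU F n U) :
    CohTop.res F n h x =
      (Ext.mk₀ (CohCx.freeSheafMap (Opens.grothendieckTopology X) (homOfLE h))).comp x
        (zero_add n) := rfl

theorem mk₀_comp_comp {A B C D : CohTop.Ab X} {n m : ℕ} (f : A ⟶ B) (w : Ext.{u} B C n)
    (e : Ext.{u} C D 1) (h : n + 1 = m) :
    (Ext.mk₀ f).comp (w.comp e h) (zero_add m) = ((Ext.mk₀ f).comp w (zero_add n)).comp e h :=
  (Ext.comp_assoc _ _ _ (zero_add n) h (by omega)).symm

/-- Cohomology classes of positive degree vanish locally. -/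
theorem exists_local_zero : ∀ (n : ℕ) (F : CohTop.Ab X) (U : Opens X) (ξ : CohTop.HU F (n + 1) U)
    (x : X), x ∈ U → ∃ (V : Opens X) (hV : V ≤ U), x ∈ V ∧ CohTop.res F (n + 1) hV ξ = 0
  | 0, F, U, ξ, x, hx => by
    let J := Opens.grothendieckTopology X
    have hT := CohBase.injSeq_shortExact F
    obtain ⟨w, rfl⟩ := Ext.covariant_sequence_exact₁ _ hT ξ
      (Ext.eq_zero_of_injective _) (by omega : 0 + 1 = 1)
    obtain ⟨φ, rfl⟩ := Ext.addEquiv₀.symm.surjective w
    haveI := hT.epi_g
    haveI hloc : Sheaf.IsLocallySurjective (CohBase.injSeq F).g :=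
      (Sheaf.isLocallySurjective_iff_epi' AddCommGrpCat.{u} _).mpr inferInstance
    obtain ⟨V, j, ⟨t, ht⟩, hxV⟩ := Presheaf.imageSieve_mem J (CohBase.injSeq F).g.hom (U := op U)
      (CohFree.evalGen J U (CohBase.injSeq F).X₃ φ) x hx
    refine ⟨V, leOfHom j, hxV, ?_⟩
    have e : CohCx.freeSheafMap J (homOfLE (leOfHom j)) ≫ φ =
        CohFree.ofSect J V (CohBase.injSeq F).X₂ t ≫ (CohBase.injSeq F).g := by
      rw [← CohFree.ofSect_evalGen J V (CohBase.injSeq F).X₃
          (CohFree.ofSect J V (CohBase.injSeq F).X₂ t ≫ (CohBase.injSeq F).g),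
        ← CohFree.ofSect_evalGen J V (CohBase.injSeq F).X₃ (CohCx.freeSheafMap J _ ≫ φ)]
      congr 1
      rw [CohFree.evalGen_freeSheafMap_comp]
      refine ht.symm.trans ?_
      exact (congrArg ((CohBase.injSeq F).g.1.app (op V))
        (CohFree.evalGen_ofSect J V (CohBase.injSeq F).X₂ t)).symm
    refine (res_eq_comp F 1 _ _).trans ?_
    refine (mk₀_comp_comp _ _ _ _).trans ?_
    refine (congrArg (fun e => Ext.comp e hT.extClass (by omega : 0 + 1 = 1))
      ((Ext.mk₀_comp_mk₀ _ _).trans ((congrArg Ext.mk₀ e).trans (Ext.mk₀_comp_mk₀ _ _).symm))).trans ?_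
    exact (Ext.comp_assoc _ _ _ (by omega) (by omega) (by omega)).trans
      ((congrArg (fun e => Ext.comp _ e (by omega : 0 + 1 = 1)) hT.comp_extClass).trans (by simp))
  | n + 1, F, U, ξ, x, hx => by
    have hT := CohBase.injSeq_shortExact F
    obtain ⟨w, rfl⟩ := Ext.covariant_sequence_exact₁ _ hT ξ
      (Ext.eq_zero_of_injective _) (by omega : n + 1 + 1 = n + 1 + 1)
    obtain ⟨V, hV, hxV, h0⟩ := exists_local_zero n (CohBase.injSeq F).X₃ U w x hx
    refine ⟨V, hV, hxV, (res_eq_comp F _ _ _).trans ?_⟩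
    refine (mk₀_comp_comp _ _ _ _).trans ?_
    exact (congrArg (fun e => Ext.comp e hT.extClass (by omega : n + 1 + 1 = n + 1 + 1))
      ((res_eq_comp _ _ hV w).symm.trans h0)).trans (by simp)

/-- Flasque sheaves have no higher cohomology. -/
theorem subsingleton_H_flasque (F : CohTop.Ab X) [TopCat.Sheaf.IsFlasque F] (n : ℕ) :
    Subsingleton (CohTop.H F (n + 1)) := by
  haveI : Subsingleton (CohBase.HU (⊤ : Opens X) F (n + 1)) := subsingleton_HU_flasque (⊤ : Opens X) n F
  exact (CohBase.HEquiv F (n + 1)).toEquiv.subsingleton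

/-- Higher direct images of flasque sheaves vanish. -/
theorem isZero_Rpush_flasque (f : X ⟶ Y) (F : CohTop.Ab X) [TopCat.Sheaf.IsFlasque F] (q : ℕ) :
    IsZero ((CohTop.Rpush f (q + 1)).obj F) :=
  CohBase.isZero_rightDerived (B := fun _ => True) f
    (fun W y hy => ⟨W, trivial, hy, le_rfl⟩)
    (fun V _ n => subsingleton_HU_flasque (CohBase.pre f V) n F) q

/-- Closed embeddings have no higher direct images. -/
theorem isZero_Rpush_closedEmbedding (f : X ⟶ Y) (hf : Topology.IsClosedEmbedding f)
    (F : CohTop.Ab X) (q : ℕ) : IsZero ((CohTop.Rpush f (q + 1)).obj F) := by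
  let R : InjectiveResolution F := Classical.choice HasInjectiveResolution.out
  haveI : PreservesFiniteLimits (CohTop.push f) :=
    haveI : PreservesLimitsOfSize.{0, 0} (CohTop.push f) :=
      (TopCat.Sheaf.pullbackPushforwardAdjunction AddCommGrpCat.{u} f).rightAdjoint_preservesLimits
    inferInstance
  refine IsZero.of_iso ?_ (R.isoRightDerivedObj (CohTop.push f) (q + 1))
  change IsZero (HomologicalComplex.homology _ (q + 1))
  rw [← HomologicalComplex.exactAt_iff_isZero_homology,
    HomologicalComplex.exactAt_iff' _ q (q + 1) (q + 2) (by simp) (by simp)]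
  have h := R.cocomplex_exactAt_succ q
  rw [HomologicalComplex.exactAt_iff' _ q (q + 1) (q + 2) (by simp) (by simp)] at h
  haveI : (CohTop.push f).PreservesEpimorphisms :=
    ⟨fun g _ => CechOpenLib.epi_push_map f hf g⟩
  haveI : (CohTop.push f).PreservesHomology :=
    Functor.preservesHomology_of_preservesEpis_and_kernels _
  exact h.map (CohTop.push f)

end Groth.Agent.CohTopEasy
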