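import Groth.Prelude.Def_CohTop
import Mathlib.CategoryTheory.Sites.Pullback
import Mathlib.Topology.Sheaves.SheafCondition.Sites

/-!
# The inverse image of abelian sheaves on spaces is left exact
-/

set_option autoImplicit false
set_option linter.style.haveILetI false

universe u

open CategoryTheory CategoryTheory.Limits

namespace Groth.Agent.CohTopEasy

attribute [local instance] reflectsLimits_of_reflectsIsomorphisms in
set_option maxHeartbeats 1000000 in
-- the flatness of `Opens.map f` takes a long instance search
theorem preservesFiniteLimits_pull {X Y : TopCat.{u}} (f : X ⟶ Y) :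
    PreservesFiniteLimits (CohTop.pull f) := by
  haveI : PreservesFiniteLimits
      ((TopologicalSpace.Opens.map f).op.lan : (_ ⥤ _ ⥤ AddCommGrpCat.{u})) :=
    lan_preservesFiniteLimits_of_flat _ _
  exact Functor.sheafPullbackConstruction.preservesFiniteLimits
    (TopologicalSpace.Opens.map f) AddCommGrpCat.{u} _ _

end Groth.Agent.CohTopEasy
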